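import Cfsg.Agent.HNCover80.Main
import Cfsg.Agent.HNCover80.Data
import Cfsg.Agent.HSCover.Multiplier

/-!
A homomorphism of `⟨x, y, z⟩` onto the automorphism group of the Higman–Sims graph, from a bound on
the group presented by the first ten relators.
-/

set_option autoImplicit false
set_option maxRecDepth 100000

namespace CfsgLib.HNCover80

open Cfsg Cfsg.Spor CfsgLib.CosetEnum CfsgLib.Schur

/-- The first ten relations, for three elements of any group. -/
def TenRels {P : Type*} [Group P] (x y z : P) : Prop :=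
  y ^ 6 = 1 ∧ (x ^ 2) * y * (x ^ 2) * (y⁻¹) = 1 ∧ (x⁻¹ * y⁻¹ * x * y) ^ 3 = 1 ∧
    ((x⁻¹) * (y ^ 2) * x * (y ^ 3)) ^ 3 = 1 ∧ (x * y) ^ 8 = 1 ∧ (x * y * x * (y ^ 3)) ^ 4 = 1 ∧
    z ^ 2 = 1 ∧ (z * x) ^ 2 = 1 ∧
    (z⁻¹ * (y * x * y * x * (y ^ 2) * x * (y⁻¹))⁻¹ * z * (y * x * y * x * (y ^ 2) * x * (y⁻¹))) * ((x ^ 2)⁻¹) = 1 ∧
    z * (((((y ^ 3) * x * y * x * y)⁻¹ * z * ((y ^ 3) * x * y * x * y)) * x) ^ 3) = 1

/-- The bound that the coset enumeration provides. -/
def TenBound : Prop :=
  ∀ (P : Type) [Group P] (x y z : P), TenRels x y z → Subgroup.closure ({x, y, z} : Set P) = ⊤ →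
    Finite P ∧ Nat.card P ≤ 177408000

theorem htables_ok : PackedPerm.tablesOK 100 hFwd hBwd = true ∧ hFwd.length = 10 := by decide +kernel

/-- A letter as a permutation. -/
def hperm (a : ℕ) : Equiv.Perm (Fin 100) := PackedPerm.toPerm htables_ok.1 a

/-- A word as a permutation. -/
def hword (w : List ℕ) : Equiv.Perm (Fin 100) := gword hperm w

/-- Agreement of two words on all points. -/
def sameH (u w : List ℕ) : Bool :=
  u.all (fun a => decide (a < hFwd.length)) && w.all (fun a => decide (a < hFwd.length)) &&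
    (List.range 100).all fun i => PackedPerm.act hFwd u i == PackedPerm.act hFwd w i

theorem hword_eq {u w : List ℕ} (h : sameH u w = true) : hword u = hword w := by
  simp only [sameH, Bool.and_eq_true] at h
  exact PackedPerm.word_eq htables_ok.1 h.1.1 h.1.2 h.2

theorem hword_append (u w : List ℕ) : hword (u ++ w) = hword u * hword w :=
  PackedPerm.gword_concat _ _ _

theorem hperm_eq_gperm {k : ℕ} (hk : k < 7) : hperm k = HSCover.gperm k := by
  refine Equiv.ext fun i => Fin.ext ?_
  rw [hperm, HSCover.gperm, PackedPerm.toPerm, dif_pos (htables_ok.2.symm ▸ by omega),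
    PackedPerm.toPerm, dif_pos (HSCover.tables_ok.2.symm ▸ hk)]
  show PackedPerm.img hFwd k i = PackedPerm.img HSCover.gFwd k i
  rw [PackedPerm.img, PackedPerm.img, hFwd, List.getD_append _ _ _ _ (HSCover.tables_ok.2.symm ▸ hk)]

theorem hword_mem_K {w : List ℕ} (hw : w.all (fun a => decide (a < 7)) = true) :
    hword w ∈ HSCover.K := by
  induction w with
  | nil => exact one_mem _
  | cons a w ih =>
    simp only [List.all_cons, Bool.and_eq_true, decide_eq_true_eq] at hw
    rw [hword, gword_cons, hperm_eq_gperm hw.1]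
    exact mul_mem (HSCover.gperm_mem hw.1) (ih hw.2)

theorem word_checks :
    sameH [7] (xyWords.getD 0 []) = true ∧ sameH [8] (xyWords.getD 1 []) = true ∧
    sameH [7, 7] [] = true ∧ sameH [9, 9] [] = true ∧
    (xyWords.all fun w => w.all fun a => decide (a < 7)) = true ∧
    (conjWords.all fun w => w.all fun a => decide (a < 7)) = true ∧
    ((List.range 7).all fun k => sameH [9, k, 9] (conjWords.getD k [])) = true ∧
    ((List.range 7).all fun k => sameH [k] (genWords.getD k []) &&
      (genWords.getD k []).all fun a => decide (7 ≤ a)) = true ∧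
    ((List.range 100).all fun i => (orbitWords.getD i []).all (fun a => decide (a < 7)) &&
      PackedPerm.act hFwd (orbitWords.getD i []) 0 == i) = true ∧
    ((List.range 6).all fun k => PackedPerm.img hFwd k 0 == 0) = true ∧
    ((List.range 100).all fun i =>
      i == 0 || (List.range 6).any fun k => !(PackedPerm.img hFwd k i == i)) = true := by
  decide +kernel

theorem rel_checks :
    sameH (List.replicate 6 8) [] = true ∧
    sameH [7, 7, 8, 7, 7] [8] = true ∧
    sameH ((List.replicate 3 ([7] ++ List.replicate 5 8 ++ [7, 8])).flatten) [] = true ∧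
    sameH ((List.replicate 3 [7, 8, 8, 7, 8, 8, 8]).flatten) [] = true ∧
    sameH ((List.replicate 8 [7, 8]).flatten) [] = true ∧
    sameH ((List.replicate 4 [7, 8, 7, 8, 8, 8]).flatten) [] = true ∧
    sameH [9, 7, 9, 7] [] = true ∧
    sameH ([9, 8, 7, 8, 7, 8, 8, 7] ++ List.replicate 5 8)
      ([8, 7, 8, 7, 8, 8, 7] ++ List.replicate 5 8 ++ [9]) = true ∧
    sameH ([9] ++ (List.replicate 3 (List.replicate 5 8 ++ [7] ++ List.replicate 5 8 ++ [7, 8, 8, 8,
      9, 8, 8, 8, 7, 8, 7, 8, 7])).flatten) [] = true := by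
  decide +kernel

theorem hword_replicate (u : List ℕ) (k : ℕ) : hword (List.replicate k u).flatten = hword u ^ k := by
  induction k with
  | zero => rfl
  | succ k ih => rw [List.replicate_succ, List.flatten_cons, hword_append, ih, pow_succ']

theorem hword_singles (a k : ℕ) : hword (List.replicate k a) = hperm a ^ k := by
  induction k with
  | zero => rfl
  | succ k ih =>
    rw [List.replicate_succ, hword, gword_cons, ← hword, ih, pow_succ']

theorem hword_cons' (a : ℕ) (w : List ℕ) : hword (a :: w) = hperm a * hword w := gword_cons _ _ _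

theorem hword_nil' : hword [] = 1 := rfl

theorem image_rels : TenRels (hperm 7) (hperm 8) (hperm 9) := by
  obtain ⟨c1, c2, c3, c4, c5, c6, c8, c9, c10⟩ := rel_checks
  obtain ⟨-, -, x2, z2, -⟩ := word_checks
  have hx : hperm 7 * hperm 7 = 1 := by simpa [hword_cons', hword_nil'] using hword_eq x2
  have hz : hperm 9 * hperm 9 = 1 := by simpa [hword_cons', hword_nil'] using hword_eq z2
  have e1 := hword_eq c1
  rw [hword_singles, hword_nil'] at e1
  have hxi : (hperm 7)⁻¹ = hperm 7 := inv_eq_of_mul_eq_one_left hx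
  have hzi : (hperm 9)⁻¹ = hperm 9 := inv_eq_of_mul_eq_one_left hz
  have hyi : (hperm 8)⁻¹ = hperm 8 ^ 5 := inv_eq_of_mul_eq_one_left (by rw [← pow_succ]; exact e1)
  have e2 := hword_eq c2
  have e3 := hword_eq c3
  have e4 := hword_eq c4
  have e5 := hword_eq c5
  have e6 := hword_eq c6
  have e8 := hword_eq c8
  have e9 := hword_eq c9
  have e10 := hword_eq c10
  simp only [hword_replicate, hword_append, hword_singles, hword_cons', hword_nil', mul_one]
    at e2 e3 e4 e5 e6 e8 e9 e10
  refine ⟨e1, ?_, ?_, ?_, ?_, ?_, by rw [pow_two, hz], ?_, ?_, ?_⟩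
  · rw [pow_two, hx, one_mul, mul_one, mul_inv_cancel]
  · rw [hxi, hyi]; simpa [pow_succ, mul_assoc] using e3
  · rw [hxi]; simpa [pow_succ, mul_assoc] using e4
  · simpa [pow_succ, mul_assoc] using e5
  · simpa [pow_succ, mul_assoc] using e6
  · rw [pow_two]; simpa [mul_assoc] using e8
  · obtain ⟨v, hv⟩ : ∃ v, v = hperm 8 * hperm 7 * hperm 8 * hperm 7 * hperm 8 ^ 2 * hperm 7 *
      (hperm 8)⁻¹ := ⟨_, rfl⟩
    have hzv : hperm 9 * v = v * hperm 9 := by
      rw [hv, hyi]; simpa [pow_succ, mul_assoc] using e9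
    rw [← hv, pow_two (hperm 7), hx, inv_one, mul_one, mul_assoc, hzv, hzi]
    rw [mul_assoc (hperm 9) v⁻¹, inv_mul_cancel_left, hz]
  · rw [show ((hperm 8 ^ 3) * hperm 7 * hperm 8 * hperm 7 * hperm 8)⁻¹ =
      hperm 8 ^ 5 * hperm 7 * hperm 8 ^ 5 * hperm 7 * hperm 8 ^ 3 by
        simp only [mul_inv_rev, hxi, hyi]
        rw [show (hperm 8 ^ 3)⁻¹ = hperm 8 ^ 3 from
          inv_eq_of_mul_eq_one_left (by rw [← pow_add]; exact e1)]
        simp only [mul_assoc]]
    simpa [pow_succ, mul_assoc] using e10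

theorem gperm_mem_closure {k : ℕ} (hk : k < 7) :
    HSCover.gperm k ∈ Subgroup.closure ({hperm 7, hperm 8, hperm 9} : Set _) := by
  obtain ⟨-, -, -, -, -, -, -, g, -, -, -⟩ := word_checks
  have h := List.all_eq_true.1 g k (List.mem_range.2 hk)
  simp only [Bool.and_eq_true] at h
  rw [← hperm_eq_gperm hk, show hperm k = hword [k] by simp [hword_cons', hword_nil'], hword_eq h.1]
  have hlen : (genWords.getD k []).all (fun a => decide (a < hFwd.length)) = true := by
    have h1 := h.1; simp only [sameH, Bool.and_eq_true] at h1; exact h1.1.2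
  revert hlen
  have h2 := h.2
  revert h2
  generalize genWords.getD k [] = w
  intro h2 hlen
  induction w with
  | nil => exact one_mem _
  | cons a w ih =>
    simp only [List.all_cons, Bool.and_eq_true, decide_eq_true_eq] at h2 hlen
    rw [hword_cons']
    refine mul_mem (Subgroup.subset_closure ?_) (ih h2.2 hlen.2)
    have := hlen.1.trans_eq htables_ok.2
    have h7 := h2.1
    interval_cases a <;> simp

theorem hperm_seven_mem : hperm 7 ∈ HSCover.K := by
  obtain ⟨h, -, -, -, hl, -⟩ := word_checks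
  rw [show hperm 7 = hword [7] by simp [hword_cons', hword_nil'], hword_eq h]
  exact hword_mem_K (List.all_eq_true.1 hl _ (by simp [xyWords]))

theorem hperm_eight_mem : hperm 8 ∈ HSCover.K := by
  obtain ⟨-, h, -, -, hl, -⟩ := word_checks
  rw [show hperm 8 = hword [8] by simp [hword_cons', hword_nil'], hword_eq h]
  exact hword_mem_K (List.all_eq_true.1 hl _ (by simp [xyWords]))

theorem hperm_nine_sq : hperm 9 * hperm 9 = 1 := by
  obtain ⟨-, -, -, z2, -⟩ := word_checks
  simpa [hword_cons', hword_nil'] using hword_eq z2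

theorem K_conj {g : Equiv.Perm (Fin 100)} (hg : g ∈ HSCover.K) :
    hperm 9 * g * hperm 9 ∈ HSCover.K := by
  have hz := hperm_nine_sq
  refine Subgroup.closure_induction (p := fun g _ => hperm 9 * g * hperm 9 ∈ HSCover.K)
    ?_ ?_ ?_ ?_ hg
  · rintro _ ⟨k, hk, rfl⟩
    obtain ⟨-, -, -, -, -, hl, hc, -⟩ := word_checks
    have h := hword_eq (List.all_eq_true.1 hc k (List.mem_range.2 hk))
    simp only [hword_cons', hword_nil', mul_one, hperm_eq_gperm hk, ← mul_assoc] at h
    rw [h]
    refine hword_mem_K ?_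
    have hk' : k < conjWords.length := hk
    rw [List.getD_eq_getElem _ _ hk']
    exact List.all_eq_true.1 hl _ (List.getElem_mem hk')
  · rw [mul_one, hz]; exact one_mem _
  · intro a b _ _ ha hb
    have : hperm 9 * (a * b) * hperm 9 = (hperm 9 * a * hperm 9) * (hperm 9 * b * hperm 9) := by
      simp [mul_assoc, hz, ← mul_assoc (hperm 9) (hperm 9)]
    rw [this]; exact mul_mem ha hb
  · intro a _ ha
    have hzi : (hperm 9)⁻¹ = hperm 9 := inv_eq_of_mul_eq_one_left hz
    have : hperm 9 * a⁻¹ * hperm 9 = (hperm 9 * a * hperm 9)⁻¹ := by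
      simp only [mul_inv_rev, hzi, mul_assoc]
    rw [this]; exact inv_mem ha

theorem hperm_nine_notMem : hperm 9 ∉ HSCover.K := by
  intro h
  have hev : ∀ g ∈ HSCover.K, Equiv.Perm.sign g = 1 := by
    intro g hg
    refine Subgroup.closure_induction (p := fun g _ => Equiv.Perm.sign g = 1) ?_ (map_one _)
      (fun a b _ _ ha hb => by rw [map_mul, ha, hb, one_mul])
      (fun a _ ha => by rw [map_inv, ha, inv_one]) hg
    rintro _ ⟨k, hk, rfl⟩
    have hall : (List.range 7).all (fun k => decide (Equiv.Perm.sign (hperm k) = 1)) = true := by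
      decide +kernel
    rw [← hperm_eq_gperm hk]
    exact of_decide_eq_true (List.all_eq_true.1 hall k (List.mem_range.2 hk))
  have hodd : decide (Equiv.Perm.sign (hperm 9) = 1) = false := by decide +kernel
  exact absurd (hev _ h) (of_decide_eq_false hodd)

/-- Nothing commutes with the seven generators. -/
theorem eq_one_of_commute {r : Equiv.Perm (Fin 100)}
    (h : ∀ k < 7, r * HSCover.gperm k = HSCover.gperm k * r) : r = 1 := by
  obtain ⟨-, -, -, -, -, -, -, -, ho, hf, hm⟩ := word_checks
  have hv : ∀ k < 10, ∀ i : Fin 100, (hperm k i).val = PackedPerm.img hFwd k i := fun k hk i => by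
    rw [hperm, PackedPerm.toPerm, dif_pos (htables_ok.2.symm ▸ hk)]; rfl
  have h0 : r 0 = 0 := by
    have hfix := List.all_eq_true.1 hm (r 0).val (List.mem_range.2 (r 0).2)
    simp only [Bool.or_eq_true, beq_iff_eq, List.any_eq_true, List.mem_range] at hfix
    rcases hfix with h0 | ⟨k, hk, hne⟩
    · exact Fin.ext h0
    · have e : hperm k 0 = 0 := Fin.ext (by
        rw [hv k (by omega)]; exact beq_iff_eq.1 (List.all_eq_true.1 hf k (List.mem_range.2 hk)))
      have h1 : hperm k (r 0) = r 0 := by
        conv_rhs => rw [← e]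
        rw [hperm_eq_gperm (by omega), ← Equiv.Perm.mul_apply, ← h k (by omega), Equiv.Perm.mul_apply]
      have h2 := congrArg Fin.val h1
      rw [hv k (by omega)] at h2
      simp [h2] at hne
  refine Equiv.ext fun i => ?_
  have hi := List.all_eq_true.1 ho i.val (List.mem_range.2 i.2)
  simp only [Bool.and_eq_true, beq_iff_eq] at hi
  have hl : (orbitWords.getD i.val []).all (fun a => decide (a < hFwd.length)) = true := by
    rw [htables_ok.2]
    exact List.all_eq_true.2 fun a ha => by
      have := of_decide_eq_true (List.all_eq_true.1 hi.1 a ha); exact decide_eq_true (by omega)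
  have hw : hword (orbitWords.getD i.val []) 0 = i :=
    Fin.ext ((PackedPerm.word_apply htables_ok.1 hl 0).trans hi.2)
  have hcm : ∀ g ∈ HSCover.K, r * g = g * r := fun g hg =>
    Subgroup.closure_induction (p := fun g _ => r * g = g * r)
      (by rintro _ ⟨k, hk, rfl⟩; exact h k hk) (by rw [mul_one, one_mul])
      (fun a b _ _ ha hb => by rw [← mul_assoc, ha, mul_assoc, hb, ← mul_assoc])
      (fun a _ ha => (show Commute r a from ha).inv_right.eq) hg
  rw [Equiv.Perm.one_apply, ← hw, ← Equiv.Perm.mul_apply, hcm _ (hword_mem_K hi.1),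
    Equiv.Perm.mul_apply, h0]

end CfsgLib.HNCover80
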