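import Cfsg.Agent.HNCover80.Lift
import Cfsg.Agent.Schur.CentralCommutator
import Cfsg.Agent.SchurMult.Multiplier

/-!
Central extensions of a group whose commutator subgroup is a perfect double cover of a group with
multiplier of order two.
-/

set_option autoImplicit false

namespace CfsgLib.HNCover80

open Cfsg

variable {Δ N Q : Type*} [Group Δ] [Group N] [Group Q] [Finite Q]

/-- A surjection maps the commutator subgroup onto the commutator subgroup. -/
theorem map_commutator_eq {A B : Type*} [Group A] [Group B] (f : A →* B) (hf : Function.Surjective f) :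
    (commutator A).map f = commutator B := by
  refine le_antisymm ?_ ?_
  · rw [Subgroup.map_le_iff_le_comap, commutator_def, Subgroup.commutator_le]
    intro a _ b _
    rw [Subgroup.mem_comap, map_commutatorElement]
    exact Subgroup.commutator_mem_commutator (Subgroup.mem_top _) (Subgroup.mem_top _)
  · rw [commutator_def (G := B), Subgroup.commutator_le]
    intro a _ b _
    obtain ⟨a, rfl⟩ := hf a
    obtain ⟨b, rfl⟩ := hf b
    rw [← map_commutatorElement]
    exact Subgroup.mem_map_of_mem _
      (Subgroup.commutator_mem_commutator (Subgroup.mem_top _) (Subgroup.mem_top _))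

/-- The commutator subgroup is perfect when it is its own derived subgroup up to central elements
and one element generates the group over it, up to central elements. -/
theorem commutator_perfect_of_central {A : Type*} [Group A] (Z : A)
    (hgen : ∀ a : A, ∃ g ∈ commutator A, ∃ k, IsCentral k ∧ ∃ m : ℤ, a = g * Z ^ m * k)
    (hder : ∀ e ∈ commutator A, ∃ f : ↥(commutator A), f ∈ commutator ↥(commutator A) ∧
      ∃ k, IsCentral k ∧ e = f * k) :
    commutator ↥(commutator A) = ⊤ := by
  rw [eq_top_iff]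
  set F := (commutator ↥(commutator A)).map (commutator A).subtype with hF
  have hFn : F.Normal := by
    rw [hF, Subgroup.map_subtype_commutator]
    infer_instance
  have hdec : ∀ a : A, ∃ k, IsCentral k ∧ ∃ m : ℤ, (a : A ⧸ F) = ((k * Z ^ m : A) : A ⧸ F) := by
    intro a
    obtain ⟨g, hg, l, hl, m, rfl⟩ := hgen a
    obtain ⟨f, hf, k, hk, rfl⟩ := hder g hg
    refine ⟨k * l, hk.mul hl, m, ?_⟩
    have : (f : A) * k * Z ^ m * l = f * (k * l * Z ^ m) := by
      rw [mul_assoc k l, hl (Z ^ m)]; group
    rw [this, QuotientGroup.mk_mul, (QuotientGroup.eq_one_iff (f : A)).2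
      (Subgroup.mem_map_of_mem _ hf), one_mul]
  have hsub : commutator A ≤ F := by
    rw [commutator_def, Subgroup.commutator_le]
    intro a _ b _
    obtain ⟨k, hk, m, ha⟩ := hdec a
    obtain ⟨l, hl, n, hb⟩ := hdec b
    have : k * Z ^ m * (l * Z ^ n) = l * Z ^ n * (k * Z ^ m) := by
      calc k * Z ^ m * (l * Z ^ n) = k * (Z ^ m * l) * Z ^ n := by group
        _ = (k * l) * (Z ^ m * Z ^ n) := by rw [← hl (Z ^ m)]; group
        _ = (l * k) * (Z ^ n * Z ^ m) := by rw [hk l, ← zpow_add, ← zpow_add, add_comm]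
        _ = l * Z ^ n * (k * Z ^ m) := by rw [mul_assoc l, ← mul_assoc k, hk (Z ^ n)]; group
    rw [← QuotientGroup.eq_one_iff, commutatorElement_def]
    simp only [QuotientGroup.mk_mul, QuotientGroup.mk_inv, ha, hb]
    rw [← QuotientGroup.mk_mul, ← QuotientGroup.mk_mul] at *
    have h := congrArg (fun t : A => (t : A ⧸ F)) this
    simp only [QuotientGroup.mk_mul] at h ⊢
    rw [h]; group
  intro e _
  obtain ⟨f, hf, hfe⟩ := (hsub e.2 : (e : A) ∈ F)
  exact (Subtype.ext hfe : f = e) ▸ hf

/-- The commutator subgroup of a double cover of a perfect group extended by one element is perfect. -/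
theorem perfect_of_double_cover {N Q : Type*} [Group N] [Group Q] {z : N}
    (hgen : commutator N ⊔ Subgroup.zpowers z = ⊤) (π : ↥(commutator N) →* Q)
    (hπ : Function.Surjective π) (hQ : commutator Q = ⊤)
    (hπc : ∀ k, π k = 1 → IsCentral (k : N)) :
    commutator ↥(commutator N) = ⊤ := by
  refine commutator_perfect_of_central z (fun a => ?_) (fun e he => ?_)
  · have : a ∈ commutator N ⊔ Subgroup.zpowers z := hgen ▸ Subgroup.mem_top _
    rw [Subgroup.mem_sup_of_normal_left] at this
    obtain ⟨g, hg, _, ⟨m, rfl⟩, rfl⟩ := this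
    exact ⟨g, hg, 1, fun b => by rw [one_mul, mul_one], m, by rw [mul_one]⟩
  · obtain ⟨f, hf, hfe⟩ : π ⟨e, he⟩ ∈ (commutator ↥(commutator N)).map π := by
      rw [map_commutator_eq π hπ, hQ]; exact Subgroup.mem_top _
    exact ⟨f, hf, _, hπc (f⁻¹ * ⟨e, he⟩) (by rw [map_mul, map_inv, hfe, inv_mul_cancel]),
      by simp only [Subgroup.coe_mul, Subgroup.coe_inv]; group⟩

/-- The preimage of a perfect double cover of `Q` meets the kernel trivially inside the commutator. -/
theorem ker_inf_commutator_eq_bot {τ : Δ →* N} (hs : Function.Surjective τ)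
    (hc : τ.ker ≤ Subgroup.center Δ) {z : N}
    (hgen : commutator N ⊔ Subgroup.zpowers z = ⊤)
    (π : ↥(commutator N) →* Q) (hπ : Function.Surjective π)
    (hperf : commutator ↥(commutator N) = ⊤)
    (hπc : π.ker ≤ Subgroup.center ↥(commutator N)) {w : ↥(commutator N)} (hw : π w = 1) (hw1 : w ≠ 1)
    (hQ : Cfsg.HasCyclicSchurMultiplier Q 2) :
    τ.ker ⊓ commutator Δ = ⊥ := by
  have hE : (commutator Δ).map τ = commutator N := by
    rw [commutator_def, Subgroup.map_commutator, Subgroup.map_top_of_surjective τ hs, ← commutator_def]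
  let τE : ↥(commutator Δ) →* ↥(commutator N) :=
    (τ.domRestrict (commutator Δ)).codRestrict _ fun g => hE ▸ Subgroup.mem_map_of_mem τ g.2
  have hτE : Function.Surjective τE := fun n => by
    obtain ⟨g, hg, hgn⟩ := (hE.symm ▸ n.2 : (n : N) ∈ (commutator Δ).map τ)
    exact ⟨⟨g, hg⟩, Subtype.ext hgn⟩
  have hkE : ∀ e, τE e = 1 → IsCentral e := fun e he g => by
    have h1 : (e : Δ) ∈ τ.ker := MonoidHom.mem_ker.2 (congrArg Subtype.val he)
    exact Subtype.ext (Subgroup.mem_center_iff.1 (hc h1) g).symm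
  -- the commutator subgroup is perfect
  have hEperf : commutator ↥(commutator Δ) = ⊤ := by
    obtain ⟨Z, hZ⟩ := hs z
    refine commutator_perfect_of_central Z (fun a => ?_) (fun e he => ?_)
    · have : τ a ∈ commutator N ⊔ Subgroup.zpowers z := hgen ▸ Subgroup.mem_top _
      rw [Subgroup.mem_sup_of_normal_left] at this
      obtain ⟨n, hn, _, ⟨m, rfl⟩, hnm⟩ := this
      obtain ⟨g, hg, rfl⟩ := (hE.symm ▸ hn : n ∈ (commutator Δ).map τ)
      refine ⟨g, hg, (g * Z ^ m)⁻¹ * a, fun b => (Subgroup.mem_center_iff.1 (hc ?_) b).symm, m, ?_⟩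
      · simp only [MonoidHom.mem_ker, map_mul, map_inv, map_zpow, hZ, ← hnm]; group
      · group
    · have : τE ⟨e, he⟩ ∈ (commutator ↥(commutator Δ)).map τE := by
        have h3 : (commutator ↥(commutator Δ)).map τE = commutator ↥(commutator N) :=
          map_commutator_eq τE hτE
        rw [h3, hperf]
        exact Subgroup.mem_top _
      obtain ⟨f, hf, hfe⟩ := this
      refine ⟨f, hf, (f : Δ)⁻¹ * e, fun b => (Subgroup.mem_center_iff.1 (hc ?_) b).symm, by group⟩
      rw [MonoidHom.mem_ker, map_mul, map_inv]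
      have h2 : τ f = τ e := congrArg Subtype.val hfe
      rw [h2, inv_mul_cancel]
  -- a central extension of `Q` with kernel of order at most two
  let ψ : ↥(commutator Δ) →* Q := π.comp τE
  have hψ : Function.Surjective ψ := hπ.comp hτE
  have hψc : ψ.ker ≤ Subgroup.center _ := by
    intro e he
    have hez : IsCentral (τE e) := fun g =>
      (Subgroup.mem_center_iff.1 (hπc (show τE e ∈ π.ker from he)) g).symm
    refine Subgroup.mem_center_iff.2 fun g =>
      (commute_of_perfect hEperf (e := e) (fun g => hkE _ ?_) g).symm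
    rw [map_mul, map_mul, map_mul, map_inv, map_inv, hez (τE g)]; group
  obtain ⟨q, hq⟩ := SchurMult.exists_surjective_of_hasSchurMultiplier hQ hψ hψc
  rw [eq_bot_iff]
  rintro k ⟨hk, hk'⟩
  rw [Subgroup.mem_bot]
  obtain ⟨u, hu⟩ := hτE w
  have hmem : ∀ e, ψ e = 1 → e ∈ ψ.ker ⊓ commutator ↥(commutator Δ) :=
    fun e he => ⟨MonoidHom.mem_ker.2 he, hEperf.symm ▸ Subgroup.mem_top e⟩
  have hkk : τE ⟨k, hk'⟩ = 1 := Subtype.ext hk
  obtain ⟨a, ha⟩ := hq ⟨⟨k, hk'⟩, hmem _ (by show π (τE _) = 1; rw [hkk, map_one])⟩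
  obtain ⟨b, hb⟩ := hq ⟨u, hmem _ (by show π (τE _) = 1; rw [hu, hw])⟩
  have hq1 : ∀ c : Multiplicative (ZMod 2), c = 1 ∨ c = Multiplicative.ofAdd 1 := by decide
  rcases hq1 a with rfl | rfl
  · rw [map_one] at ha
    exact (congrArg (fun e => ((e : ↥(ψ.ker ⊓ commutator ↥(commutator Δ))).1.1)) ha).symm
  · rcases hq1 b with rfl | rfl
    · rw [map_one] at hb
      exact absurd (hu.symm.trans ((congrArg (fun e => τE (e : ↥(ψ.ker ⊓ commutator ↥(commutator Δ))).1) hb).symm.trans
        (map_one τE))) hw1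
    · have h := congrArg Subtype.val (ha.symm.trans hb)
      exact absurd (hu.symm.trans ((congrArg τE h).symm.trans hkk)) hw1

end CfsgLib.HNCover80
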