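import Cfsg.Agent.HNCover80.Quotient
import Cfsg.Agent.HN133.Rep

/-!
The Schur multiplier of the presented Harada–Norton group is trivial, given finiteness and the bound
on the group presented by the first ten relators.
-/

set_option autoImplicit false

namespace CfsgLib.HNCover80

open Cfsg Cfsg.Spor
open scoped commutatorElement

theorem x_sq_ne_one' : hg .x ^ 2 ≠ (1 : Spor.HN) := by
  intro h
  exact HN133.x_sq_ne_one (by rw [map_pow]; exact h)

/-- The pairs generating the graph of the quotient map. -/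
def pairs : Subgroup (Spor.HN × Equiv.Perm (Fin 100)) :=
  Subgroup.closure {(hg .x, hperm 7), (hg .y, hperm 8), (hg .z, hperm 9)}

theorem prod_rels {G H : Type*} [Group G] [Group H] {x y z : G} {a b c : H}
    (h : TenRels x y z) (h' : TenRels a b c) : TenRels (x, a) (y, b) (z, c) := by
  obtain ⟨r1, r2, r3, r4, r5, r6, r7, r8, r9, r10⟩ := h
  obtain ⟨s1, s2, s3, s4, s5, s6, s7, s8, s9, s10⟩ := h'
  exact ⟨Prod.ext r1 s1, Prod.ext r2 s2, Prod.ext r3 s3, Prod.ext r4 s4, Prod.ext r5 s5,
    Prod.ext r6 s6, Prod.ext r7 s7, Prod.ext r8 s8, Prod.ext r9 s9, Prod.ext r10 s10⟩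

theorem hg_rels : TenRels (hg .x) (hg .y) (hg .z) := by
  obtain ⟨a1, a2, a3, a4, a5, a6, a7, a8, a9, a10, -, -, -, -⟩ := hn_rels
  exact ⟨a1, a2, a3, a4, a5, a6, a7, a8, a9, a10⟩

theorem pairs_finite_card (hb : TenBound) : Finite pairs ∧ Nat.card pairs ≤ 177408000 := by
  let X : pairs := ⟨(hg .x, hperm 7), Subgroup.subset_closure (by simp)⟩
  let Y : pairs := ⟨(hg .y, hperm 8), Subgroup.subset_closure (by simp)⟩
  let Z : pairs := ⟨(hg .z, hperm 9), Subgroup.subset_closure (by simp)⟩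
  obtain ⟨r1, r2, r3, r4, r5, r6, r7, r8, r9, r10⟩ := prod_rels hg_rels image_rels
  refine hb pairs X Y Z ⟨coe_rel r1, coe_rel r2, coe_rel r3, coe_rel r4, coe_rel r5, coe_rel r6,
    coe_rel r7, coe_rel r8, coe_rel r9, coe_rel r10⟩ ?_
  refine Subgroup.map_injective pairs.subtype_injective ?_
  rw [MonoidHom.map_closure, ← MonoidHom.range_eq_map, Subgroup.range_subtype]
  simp only [Set.image_insert_eq, Set.image_singleton, X, Y, Z]; rfl

/-- Projection to permutations. -/
def toPerm' : pairs →* Equiv.Perm (Fin 100) :=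
  (MonoidHom.snd Spor.HN (Equiv.Perm (Fin 100))).comp pairs.subtype

/-- Projection to the presented group. -/
def toHN : pairs →* Spor.HN :=
  (MonoidHom.fst Spor.HN (Equiv.Perm (Fin 100))).comp pairs.subtype

theorem toPerm'_range : toPerm'.range =
    Subgroup.closure ({hperm 7, hperm 8, hperm 9} : Set (Equiv.Perm (Fin 100))) := by
  rw [toPerm', MonoidHom.range_comp, Subgroup.range_subtype, pairs, MonoidHom.map_closure]
  simp only [Set.image_insert_eq, Set.image_singleton]; rfl

theorem toHN_range : toHN.range = Sxyz := by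
  rw [toHN, MonoidHom.range_comp, Subgroup.range_subtype, pairs, MonoidHom.map_closure]
  simp only [Set.image_insert_eq, Set.image_singleton]; rfl

theorem K_le_range : HSCover.K ≤ toPerm'.range := by
  rw [toPerm'_range, HSCover.K, Schur.Chain.seg, Subgroup.closure_le]
  rintro _ ⟨k, hk, rfl⟩
  exact gperm_mem_closure hk

theorem conj_mem_K {g a : Equiv.Perm (Fin 100)} (hg : g ∈ toPerm'.range) (ha : a ∈ HSCover.K) :
    g * a * g⁻¹ ∈ HSCover.K := by
  rw [toPerm'_range] at hg
  revert a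
  suffices h : ∀ a ∈ HSCover.K, g * a * g⁻¹ ∈ HSCover.K from fun {a} => h a
  refine Subgroup.closure_induction'' (p := fun g _ => ∀ a ∈ HSCover.K, g * a * g⁻¹ ∈ HSCover.K)
    ?_ ?_ (fun a ha => by simpa using ha) (fun b c _ _ hb hc a ha => ?_) hg
  · rintro _ (rfl | rfl | rfl) a ha
    · exact mul_mem (mul_mem hperm_seven_mem ha) (inv_mem hperm_seven_mem)
    · exact mul_mem (mul_mem hperm_eight_mem ha) (inv_mem hperm_eight_mem)
    · rw [inv_eq_of_mul_eq_one_left hperm_nine_sq]; exact K_conj ha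
  · rintro _ (rfl | rfl | rfl) a ha
    · rw [inv_inv]; exact mul_mem (mul_mem (inv_mem hperm_seven_mem) ha) hperm_seven_mem
    · rw [inv_inv]; exact mul_mem (mul_mem (inv_mem hperm_eight_mem) ha) hperm_eight_mem
    · rw [inv_inv, inv_eq_of_mul_eq_one_left hperm_nine_sq]; exact K_conj ha
  · have : b * c * a * (b * c)⁻¹ = b * (c * a * c⁻¹) * b⁻¹ := by group
    rw [this]; exact hb _ (hc a ha)

theorem toPerm'_sq : toPerm' ⟨(hg .x ^ 2, 1), by
    have h : ((hg .x, hperm 7) : Spor.HN × Equiv.Perm (Fin 100)) ^ 2 ∈ pairs :=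
      pow_mem (Subgroup.subset_closure (by simp)) 2
    rw [Prod.pow_mk, pow_two (hperm 7)] at h
    have hx : hperm 7 * hperm 7 = 1 := by
      obtain ⟨-, -, x2, -⟩ := word_checks
      simpa [hword_cons', hword_nil'] using hword_eq x2
    rwa [hx] at h⟩ = 1 := rfl

/-- Anything killed by the permutations is a power of the central involution. -/
theorem ker_toPerm' (hb : TenBound) {p : pairs} (hp : toPerm' p = 1) :
    toHN p = 1 ∨ toHN p = hg .x ^ 2 := by
  obtain ⟨hfin, hcard⟩ := pairs_finite_card hb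
  have hlt : HSCover.K < toPerm'.range := lt_of_le_of_ne K_le_range fun h => hperm_nine_notMem
    (h ▸ by rw [toPerm'_range]; exact Subgroup.subset_closure (by simp))
  have hR : 88704000 ≤ Nat.card toPerm'.range := by
    obtain ⟨k, hk⟩ := Subgroup.card_dvd_of_le hlt.le
    have h1 : Nat.card HSCover.K < Nat.card toPerm'.range := by
      refine lt_of_le_of_ne (Subgroup.card_le_of_le hlt.le) fun h => hlt.ne ?_
      exact SetLike.coe_injective (Set.eq_of_subset_of_ncard_le hlt.le
        (by rw [← Nat.card_coe_set_eq, ← Nat.card_coe_set_eq]; exact h.ge) (Set.toFinite _))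
    rw [HSCover.card_K] at hk h1
    omega
  have hk : Nat.card toPerm'.ker ≤ 2 := by
    have h := Subgroup.card_mul_index toPerm'.ker
    rw [Subgroup.index_ker] at h
    nlinarith
  obtain ⟨s, hs⟩ : ∃ s : toPerm'.ker, toHN (s : pairs) = hg .x ^ 2 := ⟨⟨_, toPerm'_sq⟩, rfl⟩
  have hs1 : s ≠ 1 := fun h => x_sq_ne_one' (by rw [← hs, h]; exact map_one toHN)
  by_contra hne
  classical
  rw [not_or] at hne
  have hcard3 : ({1, s, ⟨p, hp⟩} : Finset toPerm'.ker).card = 3 := by
    refine Finset.card_eq_three.2 ⟨_, _, _, hs1.symm, fun e => hne.1 ?_, fun e => hne.2 ?_, rfl⟩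
    · rw [show p = ((1 : toPerm'.ker) : pairs) from congrArg Subtype.val e.symm]; exact map_one toHN
    · rw [show p = (s : pairs) from congrArg Subtype.val e.symm]; exact hs
  have := Fintype.ofFinite toPerm'.ker
  have := Finset.card_le_univ ({1, s, ⟨p, hp⟩} : Finset toPerm'.ker)
  rw [hcard3, ← Nat.card_eq_fintype_card] at this
  omega

theorem toHN_injective (hb : TenBound) : Function.Injective toHN := by
  rw [← MonoidHom.ker_eq_bot_iff, eq_bot_iff]
  intro p hp
  rw [Subgroup.mem_bot]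
  have hker : ∀ q : pairs, toHN q = 1 → toPerm' q = 1 → q = 1 :=
    fun q h1 h2 => Subtype.ext (Prod.ext h1 h2)
  refine hker p hp ?_
  -- the permutations of the kernel of `toHN` commute with the Higman–Sims group
  refine eq_one_of_commute fun k hk => ?_
  set r := toPerm' p with hr
  obtain ⟨J, hJ⟩ : ∃ J, J = toHN.ker.map toPerm' := ⟨_, rfl⟩
  have hJn : ∀ j ∈ J, ∀ g ∈ toPerm'.range, g * j * g⁻¹ ∈ J := by
    rw [hJ]
    rintro _ ⟨q, hq, rfl⟩ _ ⟨g, rfl⟩
    exact ⟨g * q * g⁻¹, (inferInstance : toHN.ker.Normal).conj_mem q hq g, by simp⟩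
  have hmeet : J ⊓ HSCover.K = ⊥ := by
    have := HSCover.isSimpleGroup_K
    have hn : (J.subgroupOf HSCover.K).Normal := ⟨fun a ha g => by
      rw [Subgroup.mem_subgroupOf] at ha ⊢
      exact hJn _ ha _ (K_le_range g.2)⟩
    rcases hn.eq_bot_or_eq_top with h | h
    · rwa [Subgroup.subgroupOf_eq_bot, disjoint_iff] at h
    · exfalso
      rw [Subgroup.subgroupOf_eq_top] at h
      obtain ⟨q, hq, hq'⟩ := Subgroup.mem_map.1 (hJ ▸ h hperm_seven_mem)
      let X : pairs := ⟨(hg .x, hperm 7), Subgroup.subset_closure (by simp)⟩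
      have h1 := ker_toPerm' hb (p := X * q⁻¹)
        (by rw [map_mul, map_inv, hq']; exact mul_inv_cancel _)
      rw [map_mul, map_inv, MonoidHom.mem_ker.1 hq, inv_one, mul_one] at h1
      have hX : toHN X = hg .x := rfl
      rw [hX] at h1
      rcases h1 with h1 | h1
      · exact x_sq_ne_one' (by rw [h1, one_pow])
      · refine x_sq_ne_one' ?_
        rw [pow_two, right_eq_mul] at h1
        rw [h1, one_pow]
  have hr' : r ∈ J := hJ ▸ ⟨p, hp, rfl⟩
  have hgk := HSCover.gperm_mem hk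
  have h1 : r * HSCover.gperm k * r⁻¹ * (HSCover.gperm k)⁻¹ ∈ J ⊓ HSCover.K := by
    refine ⟨?_, HSCover.K.mul_mem (conj_mem_K ⟨p, rfl⟩ hgk) (HSCover.K.inv_mem hgk)⟩
    show r * HSCover.gperm k * r⁻¹ * (HSCover.gperm k)⁻¹ ∈ J
    rw [mul_assoc r, mul_assoc r]
    exact mul_mem hr' (hJn _ (inv_mem hr') _ (K_le_range hgk))
  rw [hmeet, Subgroup.mem_bot, mul_inv_eq_one, mul_inv_eq_iff_eq_mul] at h1
  exact h1

/-- The Schur multiplier of the presented Harada–Norton group is trivial. -/
theorem multiplier_HN_of_bound [Finite Spor.HN] (hb : TenBound) :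
    Cfsg.HasCyclicSchurMultiplier Spor.HN 1 := by
  let e : pairs ≃* toHN.range := MonoidHom.ofInjective (toHN_injective hb)
  let ψ : ↥Sxyz →* Equiv.Perm (Fin 100) :=
    toPerm'.comp (e.symm.toMonoidHom.comp (MulEquiv.subgroupCongr toHN_range.symm).toMonoidHom)
  have hψ : ∀ p : pairs, ∀ s : ↥Sxyz, (s : Spor.HN) = toHN p → ψ s = toPerm' p := by
    intro p s h
    show toPerm' (e.symm _) = toPerm' p
    refine congrArg _ (e.injective ?_)
    rw [MulEquiv.apply_symm_apply]
    exact Subtype.ext h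
  have hψker : ∀ s, ψ s = 1 → (s : Spor.HN) = 1 ∨ (s : Spor.HN) = hg .x ^ 2 := by
    intro s hs
    obtain ⟨p, hp⟩ : (s : Spor.HN) ∈ toHN.range := (SetLike.ext_iff.1 toHN_range _).2 s.2
    rw [← hp]
    exact ker_toPerm' hb (by rw [← hψ p s hp.symm, hs])
  have hψr : ψ.range = toPerm'.range := by
    refine le_antisymm ?_ ?_
    · rintro _ ⟨s, rfl⟩
      exact ⟨_, rfl⟩
    · rintro _ ⟨p, rfl⟩
      exact ⟨⟨toHN p, (SetLike.ext_iff.1 toHN_range (toHN p)).1 ⟨p, rfl⟩⟩, hψ p _ rfl⟩
  have hψx : ∀ s : ↥Sxyz, (s : Spor.HN) = hg .x ^ 2 → ψ s = 1 := fun s hs =>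
    (hψ _ s (hs.trans rfl)).trans toPerm'_sq
  -- the commutator subgroup maps onto the Higman–Sims group
  have hle : ∀ s ∈ commutator ↥Sxyz, ψ s ∈ HSCover.K := by
    intro s hs
    have : commutator ↥Sxyz ≤ HSCover.K.comap ψ := by
      rw [commutator_def, Subgroup.commutator_le]
      intro a _ b _
      rw [Subgroup.mem_comap, map_commutatorElement]
      have haR : ψ a ∈ toPerm'.range := hψr ▸ ⟨a, rfl⟩
      have hbR : ψ b ∈ toPerm'.range := hψr ▸ ⟨b, rfl⟩
      have hdec : ∀ g ∈ toPerm'.range, g ∈ HSCover.K ∨ g * hperm 9 ∈ HSCover.K := by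
        intro g hg
        rw [toPerm'_range] at hg
        refine Subgroup.closure_induction (p := fun g _ => g ∈ HSCover.K ∨ g * hperm 9 ∈ HSCover.K)
          ?_ (Or.inl (one_mem _)) ?_ ?_ hg
        · rintro _ (rfl | rfl | rfl)
          · exact Or.inl hperm_seven_mem
          · exact Or.inl hperm_eight_mem
          · exact Or.inr (hperm_nine_sq ▸ one_mem _)
        · rintro u v _ _ (hu | hu) (hv | hv)
          · exact Or.inl (mul_mem hu hv)
          · exact Or.inr (by rw [mul_assoc]; exact mul_mem hu hv)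
          · refine Or.inr ?_
            have : u * v * hperm 9 = (u * hperm 9) * (hperm 9 * v * hperm 9) := by
              simp [mul_assoc, ← mul_assoc (hperm 9) (hperm 9), hperm_nine_sq]
            rw [this]; exact mul_mem hu (K_conj hv)
          · refine Or.inl ?_
            have : u * v = (u * hperm 9) * (hperm 9 * (v * hperm 9) * hperm 9) := by
              simp [mul_assoc, ← mul_assoc (hperm 9) (hperm 9), hperm_nine_sq]
            rw [this]; exact mul_mem hu (K_conj hv)
        · rintro u _ (hu | hu)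
          · exact Or.inl (inv_mem hu)
          · refine Or.inr ?_
            have : u⁻¹ * hperm 9 = hperm 9 * (u * hperm 9)⁻¹ * hperm 9 := by
              simp [mul_inv_rev, inv_eq_of_mul_eq_one_left hperm_nine_sq,
                ← mul_assoc (hperm 9) (hperm 9), hperm_nine_sq]
            rw [this]; exact K_conj (inv_mem hu)
      rw [commutatorElement_def]
      have hzR : hperm 9 ∈ toPerm'.range := by
        rw [toPerm'_range]; exact Subgroup.subset_closure (by simp)
      have hsplit : ∀ g, g * hperm 9 ∈ HSCover.K → ∃ m ∈ HSCover.K, g = m * hperm 9 := fun g hg =>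
        ⟨g * hperm 9, hg, by rw [mul_assoc, hperm_nine_sq, mul_one]⟩
      rcases hdec _ haR with ha | ha
      · have := mul_mem ha (conj_mem_K hbR (inv_mem ha))
        simpa [mul_assoc] using this
      · rcases hdec _ hbR with hb | hb
        · exact mul_mem (conj_mem_K haR hb) (inv_mem hb)
        · obtain ⟨m, hm, hma⟩ := hsplit _ ha
          obtain ⟨l, hl, hlb⟩ := hsplit _ hb
          have : ψ a * ψ b * (ψ a)⁻¹ * (ψ b)⁻¹ =
              m * (hperm 9 * l * hperm 9) * (hperm 9 * m⁻¹ * hperm 9) * l⁻¹ := by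
            rw [hma, hlb]
            simp [mul_assoc, mul_inv_rev, inv_eq_of_mul_eq_one_left hperm_nine_sq,
              ← mul_assoc (hperm 9) (hperm 9), hperm_nine_sq]
          rw [this]
          exact mul_mem (mul_mem (mul_mem hm (K_conj hl)) (K_conj (inv_mem hm))) (inv_mem hl)
    exact this hs
  let π : ↥(commutator ↥Sxyz) →* ↥HSCover.K :=
    (ψ.comp (commutator ↥Sxyz).subtype).codRestrict HSCover.K fun s => hle s s.2
  have hπ : Function.Surjective π := by
    intro k
    have hk : (k : Equiv.Perm (Fin 100)) ∈ (commutator ↥Sxyz).map ψ := by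
      rw [commutator_def, Subgroup.map_commutator, ← MonoidHom.range_eq_map, hψr]
      refine Subgroup.commutator_mono K_le_range K_le_range ?_
      rw [← Subgroup.map_subtype_commutator, HSCover.perfect_K]
      exact ⟨k, Subgroup.mem_top _, rfl⟩
    obtain ⟨s, hs, hsk⟩ := hk
    exact ⟨⟨s, hs⟩, Subtype.ext hsk⟩
  obtain ⟨a1, a2, a3, a4, a5, a6, a7, a8, a9, a10, -, -, -, -⟩ := hn_rels
  have hxS : hg .x ∈ Sxyz := Subgroup.subset_closure (by simp)
  have hx4 : hg .x ^ 4 = 1 := by
    have h := hψker ⟨hg .x ^ 4, pow_mem hxS 4⟩ (by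
      rw [show (⟨hg .x ^ 4, pow_mem hxS 4⟩ : ↥Sxyz) = ⟨hg .x ^ 2, pow_mem hxS 2⟩ ^ 2 from
        Subtype.ext (by simp [← pow_mul]), map_pow, hψx _ rfl, one_pow])
    rcases h with h | h
    · exact h
    · exfalso
      refine x_sq_ne_one' ?_
      have h' : hg .x ^ 2 * hg .x ^ 2 = hg .x ^ 2 := by rw [← pow_add]; exact h
      exact mul_eq_left.1 h'
  refine multiplier_HN_of_map (Q := ↥HSCover.K) hx4 x_sq_ne_one' π hπ HSCover.perfect_K
    (fun k hk b => Subtype.ext ?_) (fun k hk => Subtype.ext (hψx _ hk)) HSCover.multiplier_K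
  -- the kernel is central: it consists of powers of the square of `x`
  rcases hψker k (congrArg Subtype.val hk) with h | h
  · show (k : ↥Sxyz).1 * b.1 = b.1 * (k : ↥Sxyz).1
    rw [h, one_mul, mul_one]
  · show (k : ↥Sxyz).1 * b.1 = b.1 * (k : ↥Sxyz).1
    rw [h]
    refine Subgroup.closure_induction (p := fun g _ => hg .x ^ 2 * g = g * hg .x ^ 2) ?_ (by simp)
      (fun u v _ _ hu hv => by rw [← mul_assoc, hu, mul_assoc, hv, ← mul_assoc])
      (fun u _ hu => (show Commute (hg .x ^ 2) u from hu).inv_right.eq) b.2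
    have h2i : (hg .x ^ 2)⁻¹ = hg .x ^ 2 :=
      inv_eq_of_mul_eq_one_left (by rw [← pow_add]; exact hx4)
    rintro _ (rfl | rfl | rfl)
    · exact (Commute.pow_self (hg .x) 2).eq
    · calc hg .x ^ 2 * hg .y = (hg .x ^ 2 * hg .y * hg .x ^ 2 * (hg .y)⁻¹) * hg .y * (hg .x ^ 2)⁻¹ := by group
        _ = hg .y * hg .x ^ 2 := by rw [a2, one_mul, h2i]
    · have hzi : (hg .z)⁻¹ = hg .z := inv_eq_of_mul_eq_one_left (by rw [← pow_two]; exact a7)
      have h1 : hg .z * hg .x * hg .z = (hg .x)⁻¹ :=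
        eq_inv_of_mul_eq_one_left (by rw [mul_assoc (hg .z * hg .x), ← pow_two]; exact a8)
      have h2 : hg .z * hg .x ^ 2 * (hg .z)⁻¹ = hg .x ^ 2 := by
        calc hg .z * hg .x ^ 2 * (hg .z)⁻¹ = (hg .z * hg .x * (hg .z)⁻¹) ^ 2 := by
              rw [conj_pow]
          _ = (hg .x ^ 2)⁻¹ := by rw [hzi, h1, inv_pow]
          _ = hg .x ^ 2 := h2i
      exact (mul_inv_eq_iff_eq_mul.1 h2).symm

end CfsgLib.HNCover80
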