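import Mathlib.GroupTheory.Commutator.Basic
import Mathlib.GroupTheory.Abelianization.Defs
import Mathlib.Tactic.Group

/-!
Normalising lifts of the Harada–Norton generators in a central extension.
-/

set_option autoImplicit false

namespace CfsgLib.HNCover80

variable {G : Type*} [Group G]

/-- A word whose value commutes with everything. -/
def IsCentral (k : G) : Prop := ∀ g : G, k * g = g * k

theorem IsCentral.comm {k : G} (h : IsCentral k) (g : G) : Commute k g := h g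

theorem IsCentral.mul {a b : G} (ha : IsCentral a) (hb : IsCentral b) : IsCentral (a * b) :=
  fun g => ((ha.comm g).mul_left (hb.comm g)).eq

theorem IsCentral.inv {a : G} (ha : IsCentral a) : IsCentral a⁻¹ :=
  fun g => (ha.comm g).inv_left.eq

theorem IsCentral.pow {a : G} (ha : IsCentral a) (n : ℕ) : IsCentral (a ^ n) :=
  fun g => ((ha.comm g).pow_left n).eq

/-- Two of the relators force the lift of the element of order five up to one central factor. -/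
theorem exists_t {X Y T p q : G} (hp : IsCentral p) (hq : IsCentral q)
    (h5 : T ^ 5 = p) (hX : X⁻¹ * T * X = T⁻¹ * T⁻¹ * q)
    (hY : IsCentral (T⁻¹ * Y⁻¹ * T * Y)) (hY6 : IsCentral (Y ^ 6)) :
    ∃ e : G, IsCentral e ∧ (∃ i j : ℤ, e = p ^ i * q ^ j) ∧ (T * e) ^ 5 = 1 ∧
      X⁻¹ * (T * e) * X * (T * e) ^ 2 = 1 ∧ (T * e)⁻¹ * Y⁻¹ * (T * e) * Y = 1 := by
  obtain ⟨c, hc⟩ : ∃ c, T⁻¹ * Y⁻¹ * T * Y = c := ⟨_, rfl⟩
  rw [hc] at hY
  have h1 : Y⁻¹ * T * Y = T * c := by rw [← hc]; group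
  -- conjugation by `X` compares the two central values
  have hqp : q ^ 5 = p ^ 3 := by
    have e1 : (X⁻¹ * T * X) ^ 5 = p := by
      rw [show (X⁻¹ * T * X) ^ 5 = X⁻¹ * T ^ 5 * X by
        simp only [pow_succ, pow_zero, one_mul]; group, h5, mul_assoc, hp X,
        ← mul_assoc, inv_mul_cancel, one_mul]
    rw [hX, (((hq.comm (T⁻¹ * T⁻¹)).symm)).mul_pow, show (T⁻¹ * T⁻¹) ^ 5 = (T ^ 5)⁻¹ * (T ^ 5)⁻¹ by
      simp only [pow_succ, pow_zero, one_mul]; group, h5] at e1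
    calc q ^ 5 = p * p * (p⁻¹ * p⁻¹ * q ^ 5) := by group
      _ = p * p * p := by rw [e1]
      _ = p ^ 3 := by simp only [pow_succ, pow_zero, one_mul]
  have hc5 : c ^ 5 = 1 := by
    have e1 : (Y⁻¹ * T * Y) ^ 5 = p := by
      rw [show (Y⁻¹ * T * Y) ^ 5 = Y⁻¹ * T ^ 5 * Y by
        simp only [pow_succ, pow_zero, one_mul]; group, h5, mul_assoc, hp Y,
        ← mul_assoc, inv_mul_cancel, one_mul]
    rw [h1, (hY.comm T).symm.mul_pow, h5] at e1
    exact mul_eq_left.1 e1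
  have hc6 : c ^ 6 = 1 := by
    have hstep : ∀ n : ℕ, (Y ^ n)⁻¹ * T * Y ^ n = T * c ^ n := by
      intro n
      induction n with
      | zero => simp
      | succ n ih =>
        calc (Y ^ (n + 1))⁻¹ * T * Y ^ (n + 1)
            = Y⁻¹ * ((Y ^ n)⁻¹ * T * Y ^ n) * Y := by simp only [pow_succ]; group
          _ = (Y⁻¹ * T * Y) * c ^ n := by
            rw [ih, mul_assoc Y⁻¹ (T * c ^ n) Y, mul_assoc T (c ^ n) Y, hY.pow n Y]; group
          _ = T * c ^ (n + 1) := by rw [h1, mul_assoc, ← pow_succ']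
    have e1 := hstep 6
    rw [mul_assoc, ← hY6 T, ← mul_assoc, inv_mul_cancel, one_mul] at e1
    exact mul_eq_left.1 e1.symm
  have hc1 : c = 1 := by rw [pow_succ, hc5, one_mul] at hc6; exact hc6
  have hce : IsCentral (p⁻¹ * p⁻¹ * q ^ 3) := ((hp.inv).mul hp.inv).mul (hq.pow 3)
  refine ⟨p⁻¹ * p⁻¹ * q ^ 3, hce, ⟨-2, 3, by group⟩, ?_, ?_, ?_⟩
  all_goals set e := p⁻¹ * p⁻¹ * q ^ 3 with he
  · rw [(hce.comm T).symm.mul_pow, h5, he, (hq.pow 3 |>.comm (p⁻¹ * p⁻¹)).symm.mul_pow, ← pow_mul,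
      show 3 * 5 = 5 * 3 from rfl, pow_mul, hqp]
    simp only [pow_succ, pow_zero, one_mul]
    group
  · have hpq : Commute p⁻¹ q := hp.inv.comm q
    calc X⁻¹ * (T * e) * X * (T * e) ^ 2
        = X⁻¹ * T * X * e * (T ^ 2 * e ^ 2) := by
          rw [(hce.comm T).symm.mul_pow, ← mul_assoc X⁻¹ T e, mul_assoc (X⁻¹ * T) e X, hce X, ← mul_assoc]
          simp only [mul_assoc]
      _ = T⁻¹ * T⁻¹ * q * e * (T ^ 2 * e ^ 2) := by rw [hX]
      _ = (q * e * e ^ 2) * (T⁻¹ * T⁻¹ * T ^ 2) := by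
          have h' : IsCentral (q * e) := hq.mul hce
          have h'' : IsCentral (q * e * e ^ 2) := h'.mul (hce.pow 2)
          rw [mul_assoc (T⁻¹ * T⁻¹) q e, mul_assoc (T⁻¹ * T⁻¹) (q * e), ← mul_assoc (q * e) (T ^ 2),
            h' (T ^ 2), mul_assoc (T ^ 2), ← mul_assoc (T⁻¹ * T⁻¹) (T ^ 2), h'' (T⁻¹ * T⁻¹ * T ^ 2)]
      _ = 1 := by
          rw [show T⁻¹ * T⁻¹ * T ^ 2 = 1 by group, mul_one, mul_assoc, ← pow_succ', he,
            (hq.pow 3 |>.comm (p⁻¹ * p⁻¹)).symm.mul_pow, ← mul_assoc, (hq.comm _).eq, mul_assoc,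
            ← pow_mul, ← pow_succ', show 3 * (2 + 1) + 1 = 5 * 2 by rfl, pow_mul, hqp]
          simp only [pow_succ, pow_zero, one_mul]
          group
  · calc (T * e)⁻¹ * Y⁻¹ * (T * e) * Y = e⁻¹ * T⁻¹ * Y⁻¹ * T * (e * Y) := by group
      _ = e⁻¹ * (T⁻¹ * Y⁻¹ * T * Y) * e := by rw [hce Y]; group
      _ = 1 := by rw [hc, hc1]; group

/-- The relation on `z t` fixes the lift of the involution. -/
theorem exists_z {X Z T a d : G} (ha : IsCentral a) (hd : IsCentral d)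
    (h2 : Z ^ 2 = a) (h3 : (Z * T) ^ 3 = d) (hX4 : X ^ 4 = 1) (hZX : Z⁻¹ * X * Z = X⁻¹)
    (h5 : T ^ 5 = 1) (hXT : X⁻¹ * T * X * T ^ 2 = 1) :
    ∃ u : G, IsCentral u ∧ (∃ i j : ℤ, u = a ^ i * d ^ j) ∧ (Z * u) ^ 2 = 1 ∧ (Z * u * T) ^ 3 = 1 := by
  have t3 : X⁻¹ * T * X = T ^ 3 := by
    calc X⁻¹ * T * X = (X⁻¹ * T * X * T ^ 2) * (T ^ 2)⁻¹ := by group
      _ = T ^ 5 * (T ^ 2)⁻¹ := by rw [hXT, h5]
      _ = T ^ 3 := by group
  have tinv : (X * X)⁻¹ * T * (X * X) = T⁻¹ := by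
    calc (X * X)⁻¹ * T * (X * X) = X⁻¹ * (X⁻¹ * T * X) * X := by group
      _ = X⁻¹ * T ^ 3 * X := by rw [t3]
      _ = (X⁻¹ * T * X) ^ 3 := by simp only [pow_succ, pow_zero, one_mul]; group
      _ = (T ^ 5) ^ 2 * T⁻¹ := by rw [t3]; group
      _ = T⁻¹ := by rw [h5]; group
  have zinv : (X * X)⁻¹ * Z * (X * X) = Z := by
    have e1 : X * Z = Z * X⁻¹ := by rw [← hZX]; group
    have e2 : X⁻¹ * Z = Z * X := by
      calc X⁻¹ * Z = X⁻¹ * (Z * X⁻¹) * X := by group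
        _ = Z * X := by rw [← e1]; group
    calc (X * X)⁻¹ * Z * (X * X) = X⁻¹ * (X⁻¹ * Z) * X * X := by group
      _ = X⁻¹ * (Z * X) * X * X := by rw [e2]
      _ = (X⁻¹ * Z) * X ^ 3 := by simp only [pow_succ, pow_zero, one_mul, mul_assoc]
      _ = Z * X ^ 4 := by rw [e2]; group
      _ = Z := by rw [hX4, mul_one]
  -- the same value with `t` inverted
  have hA : (Z * T⁻¹) ^ 3 = d := by
    calc (Z * T⁻¹) ^ 3 = (((X * X)⁻¹ * Z * (X * X)) * ((X * X)⁻¹ * T * (X * X))) ^ 3 := by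
          rw [zinv, tinv]
      _ = (X * X)⁻¹ * (Z * T) ^ 3 * (X * X) := by simp only [pow_succ, pow_zero, one_mul]; group
      _ = d := by rw [h3, mul_assoc, hd, ← mul_assoc, inv_mul_cancel, one_mul]
  have hB : (T⁻¹ * Z) ^ 3 = d := by
    calc (T⁻¹ * Z) ^ 3 = T⁻¹ * (Z * T⁻¹) ^ 3 * T := by simp only [pow_succ, pow_zero, one_mul]; group
      _ = d := by rw [hA, mul_assoc, hd, ← mul_assoc, inv_mul_cancel, one_mul]
  have hda : d ^ 2 = a ^ 3 := by
    have hz : Z⁻¹ = Z * a⁻¹ := by rw [← h2]; group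
    have e1 : d⁻¹ = d * (a⁻¹) ^ 3 := by
      calc d⁻¹ = (T⁻¹ * Z⁻¹) ^ 3 := by rw [← h3, ← inv_pow, mul_inv_rev]
        _ = (T⁻¹ * Z * a⁻¹) ^ 3 := by rw [hz, mul_assoc]
        _ = d * (a⁻¹) ^ 3 := by rw [(ha.inv.comm (T⁻¹ * Z)).symm.mul_pow, hB]
    calc d ^ 2 = d * (d * (a⁻¹) ^ 3) * a ^ 3 := by simp only [pow_succ, pow_zero, one_mul]; group
      _ = a ^ 3 := by rw [← e1, mul_inv_cancel, one_mul]
  have hu : IsCentral (a * d⁻¹) := ha.mul hd.inv
  have hcd : Commute a d⁻¹ := ha.comm d⁻¹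
  refine ⟨a * d⁻¹, hu, ⟨1, -1, by group⟩, ?_, ?_⟩
  · rw [(hu.comm Z).symm.mul_pow, h2, hcd.mul_pow, inv_pow, hda, ← mul_assoc, ← pow_succ']
    group
  · rw [mul_assoc Z, hu T, ← mul_assoc, (hu.comm (Z * T)).symm.mul_pow, h3, hcd.mul_pow, inv_pow,
      ← hda, ← mul_assoc, ← pow_succ']
    group

variable {N : Type*} [Group N]

/-- A perfect two-fold central extension of a group with multiplier of order two lifts
faithfully to the commutator subgroup of any central extension. -/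
theorem commute_of_perfect {E : Type*} [Group E] (hE : commutator E = ⊤) {e : E}
    (h : ∀ g, IsCentral (e * g * e⁻¹ * g⁻¹)) : IsCentral e := by
  let f : E →* Subgroup.center E :=
    { toFun := fun g => ⟨e * g * e⁻¹ * g⁻¹, Subgroup.mem_center_iff.2 fun x => (h g x).symm⟩
      map_one' := by ext; simp
      map_mul' := fun g k => by
        ext
        show e * (g * k) * e⁻¹ * (g * k)⁻¹ = (e * g * e⁻¹ * g⁻¹) * (e * k * e⁻¹ * k⁻¹)
        calc e * (g * k) * e⁻¹ * (g * k)⁻¹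
            = e * g * e⁻¹ * ((e * k * e⁻¹ * k⁻¹) * g⁻¹) := by group
          _ = (e * g * e⁻¹ * g⁻¹) * (e * k * e⁻¹ * k⁻¹) := by rw [h k g⁻¹]; group }
  have hk : commutator E ≤ f.ker := by
    rw [commutator_def, Subgroup.commutator_le]
    intro a _ b _
    refine MonoidHom.mem_ker.2 (Subtype.ext ?_)
    have hcm : ((f a : E)) * (f b : E) = (f b : E) * (f a : E) :=
      (Subgroup.mem_center_iff.1 (f a).2 _).symm
    simp only [map_mul, map_inv, commutatorElement_def, Subgroup.coe_mul, Subgroup.coe_inv,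
      Subgroup.coe_one]
    rw [hcm]; group
  intro g
  have : f g = 1 := MonoidHom.mem_ker.1 (hk (by rw [hE]; exact Subgroup.mem_top g))
  have h1 : e * g * e⁻¹ * g⁻¹ = 1 := congrArg Subtype.val this
  calc e * g = (e * g * e⁻¹ * g⁻¹) * (g * e) := by group
    _ = g * e := by rw [h1, one_mul]

end CfsgLib.HNCover80
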