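import Cfsg.Prelude.Def_Spor_HN
import Cfsg.Agent.HNCover80.Cover

/-!
The Schur multiplier of the presented Harada–Norton group, from the structure of its subgroup
generated by `x`, `y`, `z`.
-/

set_option autoImplicit false

namespace CfsgLib.HNCover80

open Cfsg Cfsg.Spor
open scoped commutatorElement

/-- The images of the generators. -/
def hg (a : HN.Gen) : Spor.HN := PresentedGroup.of a

/-- The subgroup generated by `x`, `y`, `z`. -/
def Sxyz : Subgroup Spor.HN := Subgroup.closure {hg .x, hg .y, hg .z}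

theorem rel_of_mem {r : FreeGroup HN.Gen} (h : r ∈ HN.extra) :
    FreeGroup.lift hg r = 1 := by
  have h2 : (FreeGroup.lift hg : FreeGroup HN.Gen →* Spor.HN) = PresentedGroup.mk _ :=
    FreeGroup.ext_hom _ _ fun a => FreeGroup.lift_apply_of
  rw [h2]
  exact PresentedGroup.one_of_mem (Or.inr h)

/-- The fourteen relations in the group. -/
theorem hn_rels :
    let x := hg .x; let y := hg .y; let z := hg .z; let t := hg .t
    y ^ 6 = 1 ∧ (x ^ 2) * y * (x ^ 2) * (y⁻¹) = 1 ∧ (x⁻¹ * y⁻¹ * x * y) ^ 3 = 1 ∧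
    ((x⁻¹) * (y ^ 2) * x * (y ^ 3)) ^ 3 = 1 ∧ (x * y) ^ 8 = 1 ∧ (x * y * x * (y ^ 3)) ^ 4 = 1 ∧
    z ^ 2 = 1 ∧ (z * x) ^ 2 = 1 ∧
    (z⁻¹ * (y * x * y * x * (y ^ 2) * x * (y⁻¹))⁻¹ * z * (y * x * y * x * (y ^ 2) * x * (y⁻¹))) * ((x ^ 2)⁻¹) = 1 ∧
    z * (((((y ^ 3) * x * y * x * y)⁻¹ * z * ((y ^ 3) * x * y * x * y)) * x) ^ 3) = 1 ∧
    t ^ 5 = 1 ∧ (x⁻¹ * t * x) * (t ^ 2) = 1 ∧ t⁻¹ * y⁻¹ * t * y = 1 ∧ (z * t) ^ 3 = 1 := by
  have h : ∀ r ∈ HN.extra, FreeGroup.lift hg r = 1 := fun r => rel_of_mem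
  simpa [HN.extra, List.forall_mem_cons, HN.x, HN.y, HN.z, HN.t] using h

/-- A group satisfying the first ten relations has `x`, `y` in its commutator subgroup. -/
theorem mem_commutator_of_rels {N : Type*} [Group N] {x y z : N}
    (r1 : y ^ 6 = 1) (r2 : (x ^ 2) * y * (x ^ 2) * (y⁻¹) = 1)
    (r4 : ((x⁻¹) * (y ^ 2) * x * (y ^ 3)) ^ 3 = 1) (r5 : (x * y) ^ 8 = 1) (r7 : z ^ 2 = 1)
    (r9 : (z⁻¹ * (y * x * y * x * (y ^ 2) * x * (y⁻¹))⁻¹ * z * (y * x * y * x * (y ^ 2) * x * (y⁻¹))) * ((x ^ 2)⁻¹) = 1)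
    (r10 : z * (((((y ^ 3) * x * y * x * y)⁻¹ * z * ((y ^ 3) * x * y * x * y)) * x) ^ 3) = 1) :
    x ∈ commutator N ∧ y ∈ commutator N := by
  obtain ⟨f, hf⟩ : ∃ f : N →* Abelianization N, f = Abelianization.of := ⟨_, rfl⟩
  have key : ∀ {a : N}, a = 1 → f a = 1 := fun h => h ▸ map_one f
  have e1 := key r1
  have e2 := key r2
  have e4 := key r4
  have e5 := key r5
  have e7 := key r7
  have e9 := key r9
  have e10 := key r10
  simp only [map_mul, map_inv, map_pow, mul_pow, inv_pow] at e1 e2 e4 e5 e7 e9 e10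
  have hconj : ∀ a b : Abelianization N, a⁻¹ * b * a = b := fun a b => by
    rw [mul_comm a⁻¹, inv_mul_cancel_right]
  have hy3 : f y ^ 3 = 1 := by
    have : f y ^ 15 = 1 := by
      rw [← e4, hconj, ← pow_mul, ← pow_mul, ← pow_add]
    calc f y ^ 3 = f y ^ 15 * ((f y ^ 6) ^ 2)⁻¹ := by group
      _ = 1 := by rw [this, e1]; group
  have hx4 : f x ^ 4 = 1 := by
    calc f x ^ 4 = f x ^ 2 * f x ^ 2 * (f y * (f y)⁻¹) := by rw [mul_inv_cancel, mul_one, ← pow_add]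
      _ = 1 := by rw [← e2]; ac_rfl
  have hy1 : f y = 1 := by
    have h8 : f y ^ 8 = 1 := by
      rw [show f x ^ 8 = (f x ^ 4) ^ 2 by rw [← pow_mul], hx4, one_pow, one_mul] at e5
      exact e5
    calc f y = (f y ^ 3) ^ 3 * (f y ^ 8)⁻¹ := by group
      _ = 1 := by rw [hy3, h8]; group
  simp only [hy1, one_pow, one_mul, mul_one, inv_one] at e9 e10
  have hx2 : f x ^ 2 = 1 := by
    rw [show (f z)⁻¹ * (f x * f x * f x)⁻¹ * f z * (f x * f x * f x) = 1 by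
      rw [hconj]; exact inv_mul_cancel _, one_mul] at e9
    exact inv_eq_one.1 e9
  have hx1 : f x = 1 := by
    rw [hconj, ← mul_assoc, ← pow_succ', show (3 : ℕ) + 1 = 2 * 2 from rfl, pow_mul,
      e7, one_pow, one_mul] at e10
    calc f x = f x ^ 3 * (f x ^ 2)⁻¹ := by group
      _ = 1 := by rw [e10, hx2]; group
  refine ⟨?_, ?_⟩ <;>
    exact Abelianization.ker_of N ▸ MonoidHom.mem_ker.2 (by rw [← hf]; assumption)

/-- Lifts of `x`, `y` in the commutator subgroup satisfy the relations, with any lift of `z`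
squaring to one. -/
theorem exists_lifts {Δ N : Type*} [Group Δ] [Group N] {τ : Δ →* N} (hs : Function.Surjective τ)
    (hE : τ.ker ⊓ commutator Δ = ⊥) {x y z : N}
    (hxy : x ∈ commutator N ∧ y ∈ commutator N)
    (r1 : y ^ 6 = 1) (r2 : (x ^ 2) * y * (x ^ 2) * (y⁻¹) = 1) (r3 : (x⁻¹ * y⁻¹ * x * y) ^ 3 = 1)
    (r4 : ((x⁻¹) * (y ^ 2) * x * (y ^ 3)) ^ 3 = 1) (r5 : (x * y) ^ 8 = 1)
    (r6 : (x * y * x * (y ^ 3)) ^ 4 = 1) (r7 : z ^ 2 = 1) (r8 : (z * x) ^ 2 = 1)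
    (r9 : (z⁻¹ * (y * x * y * x * (y ^ 2) * x * (y⁻¹))⁻¹ * z * (y * x * y * x * (y ^ 2) * x * (y⁻¹))) * ((x ^ 2)⁻¹) = 1)
    (r10 : z * (((((y ^ 3) * x * y * x * y)⁻¹ * z * ((y ^ 3) * x * y * x * y)) * x) ^ 3) = 1)
    (hx4 : x ^ 4 = 1) :
    ∃ X Y : Δ, τ X = x ∧ τ Y = y ∧ X ^ 4 = 1 ∧
      Y ^ 6 = 1 ∧ (X ^ 2) * Y * (X ^ 2) * (Y⁻¹) = 1 ∧ (X⁻¹ * Y⁻¹ * X * Y) ^ 3 = 1 ∧
      ((X⁻¹) * (Y ^ 2) * X * (Y ^ 3)) ^ 3 = 1 ∧ (X * Y) ^ 8 = 1 ∧ (X * Y * X * (Y ^ 3)) ^ 4 = 1 ∧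
      ∀ Z : Δ, τ Z = z → Z⁻¹ * X * Z = X⁻¹ ∧ (Z ^ 2 = 1 → (Z * X) ^ 2 = 1 ∧
        (Z⁻¹ * (Y * X * Y * X * (Y ^ 2) * X * (Y⁻¹))⁻¹ * Z * (Y * X * Y * X * (Y ^ 2) * X * (Y⁻¹))) * ((X ^ 2)⁻¹) = 1 ∧
        Z * (((((Y ^ 3) * X * Y * X * Y)⁻¹ * Z * ((Y ^ 3) * X * Y * X * Y)) * X) ^ 3) = 1) := by
  have hmap : ∀ n ∈ commutator N, ∃ e ∈ commutator Δ, τ e = n := by
    intro n hn
    have : (commutator Δ).map τ = commutator N := by
      rw [commutator_def, Subgroup.map_commutator, Subgroup.map_top_of_surjective τ hs, ← commutator_def]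
    exact Subgroup.mem_map.1 (this ▸ hn)
  obtain ⟨X, hX, hτX⟩ := hmap x hxy.1
  obtain ⟨Y, hY, hτY⟩ := hmap y hxy.2
  have one : ∀ {e : Δ}, e ∈ commutator Δ → τ e = 1 → e = 1 := fun {e} he h =>
    Subgroup.mem_bot.1 (hE ▸ ⟨MonoidHom.mem_ker.2 h, he⟩)
  have cl : ∀ {e f : Δ}, e ∈ commutator Δ → f ∈ commutator Δ → e * f ∈ commutator Δ := mul_mem
  refine ⟨X, Y, hτX, hτY, one (pow_mem hX 4) (by rw [map_pow, hτX, hx4]),
    one (pow_mem hY 6) (by rw [map_pow, hτY, r1]),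
    one (by repeat' first | exact hX | exact hY | apply mul_mem | apply inv_mem | apply pow_mem)
      (by simpa [hτX, hτY] using r2),
    one (by repeat' first | exact hX | exact hY | apply mul_mem | apply inv_mem | apply pow_mem)
      (by simpa [hτX, hτY] using r3),
    one (by repeat' first | exact hX | exact hY | apply mul_mem | apply inv_mem | apply pow_mem)
      (by simpa [hτX, hτY] using r4),
    one (by repeat' first | exact hX | exact hY | apply mul_mem | apply inv_mem | apply pow_mem)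
      (by simpa [hτX, hτY] using r5),
    one (by repeat' first | exact hX | exact hY | apply mul_mem | apply inv_mem | apply pow_mem)
      (by simpa [hτX, hτY] using r6), ?_⟩
  intro Z hτZ
  have hn : (commutator Δ).Normal := inferInstance
  have cj : ∀ {e : Δ}, e ∈ commutator Δ → Z⁻¹ * e * Z ∈ commutator Δ := fun {e} he => by
    simpa using hn.conj_mem e he Z⁻¹
  have hZX : Z⁻¹ * X * Z = X⁻¹ := by
    refine mul_inv_eq_one.1 (one (mul_mem (cj hX) (inv_mem (inv_mem hX))) ?_)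
    have hz1 : z⁻¹ = z := inv_eq_of_mul_eq_one_left (by rw [← pow_two]; exact r7)
    simp only [map_mul, map_inv, hτX, hτZ, inv_inv, hz1]
    rw [mul_assoc (z * x), ← pow_two]; exact r8
  refine ⟨hZX, fun hZ2 => ⟨?_, ?_, ?_⟩⟩
  · have hz : Z⁻¹ = Z := inv_eq_of_mul_eq_one_left (by rw [← pow_two, hZ2])
    rw [hz] at hZX
    rw [pow_two, ← mul_assoc (Z * X), hZX, inv_mul_cancel]
  · obtain ⟨W, hW⟩ : ∃ W, W = Y * X * Y * X * (Y ^ 2) * X * (Y⁻¹) := ⟨_, rfl⟩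
    have hWm : W ∈ commutator Δ := by
      rw [hW]; repeat' first | exact hX | exact hY | apply mul_mem | apply inv_mem | apply pow_mem
    rw [← hW]
    refine one (mul_mem (mul_mem (cj (inv_mem hWm)) hWm) (inv_mem (pow_mem hX 2))) ?_
    simpa [hW, hτX, hτY, hτZ] using r9
  · obtain ⟨W, hW⟩ : ∃ W, W = (Y ^ 3) * X * Y * X * Y := ⟨_, rfl⟩
    have hWm : W ∈ commutator Δ := by
      rw [hW]; repeat' first | exact hX | exact hY | apply mul_mem | apply inv_mem | apply pow_mem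
    rw [← hW]
    have hz : Z⁻¹ = Z := inv_eq_of_mul_eq_one_left (by rw [← pow_two, hZ2])
    have hU : Z⁻¹ * W⁻¹ * Z * W * X ∈ commutator Δ := mul_mem (mul_mem (cj (inv_mem hWm)) hWm) hX
    have : Z * ((W⁻¹ * Z * W * X) ^ 3) = (Z⁻¹ * W⁻¹ * Z * W * X) *
        (Z⁻¹ * (Z⁻¹ * W⁻¹ * Z * W * X) * Z) * (Z⁻¹ * W⁻¹ * Z * W * X) := by
      calc Z * ((W⁻¹ * Z * W * X) ^ 3)
          = Z ^ 2 * ((Z⁻¹ * W⁻¹ * Z * W * X) * (Z * (Z⁻¹ * W⁻¹ * Z * W * X) * Z) * (Z⁻¹ * W⁻¹ * Z * W * X)) := by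
            simp only [pow_succ, pow_zero, one_mul]; group
        _ = _ := by rw [hZ2, one_mul, hz]
    refine one ?_ (by simpa [hW, hτX, hτY, hτZ] using r10)
    rw [this]
    exact mul_mem (mul_mem hU (cj hU)) hU

/-- Words in a subgroup. -/
theorem coe_rel {G : Type*} [Group G] {H : Subgroup G} {a : H} (h : (a : G) = 1) : a = 1 :=
  Subtype.ext h

/-- The multiplier of `HN` is trivial once `⟨x, y, z⟩` is known to be a double cover of `HS:2`. -/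
theorem multiplier_HN [Finite Spor.HN] {Q : Type*} [Group Q] [Finite Q]
    (hx4 : hg .x ^ 4 = 1) (π : ↥(commutator ↥Sxyz) →* Q) (hπ : Function.Surjective π)
    (hperf : commutator ↥(commutator ↥Sxyz) = ⊤)
    (hπc : π.ker ≤ Subgroup.center ↥(commutator ↥Sxyz)) {w : ↥(commutator ↥Sxyz)} (hw : π w = 1)
    (hw1 : w ≠ 1) (hQ : Cfsg.HasCyclicSchurMultiplier Q 2) :
    Cfsg.HasCyclicSchurMultiplier Spor.HN 1 := by
  obtain ⟨a1, a2, a3, a4, a5, a6, a7, a8, a9, a10, b5, bx, by', bz⟩ := hn_rels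
  let x : ↥Sxyz := ⟨hg .x, Subgroup.subset_closure (by simp)⟩
  let y : ↥Sxyz := ⟨hg .y, Subgroup.subset_closure (by simp)⟩
  let z : ↥Sxyz := ⟨hg .z, Subgroup.subset_closure (by simp)⟩
  have r1 : y ^ 6 = 1 := coe_rel a1
  have r2 : (x ^ 2) * y * (x ^ 2) * (y⁻¹) = 1 := coe_rel a2
  have r3 : (x⁻¹ * y⁻¹ * x * y) ^ 3 = 1 := coe_rel a3
  have r4 : ((x⁻¹) * (y ^ 2) * x * (y ^ 3)) ^ 3 = 1 := coe_rel a4
  have r5 : (x * y) ^ 8 = 1 := coe_rel a5
  have r6 : (x * y * x * (y ^ 3)) ^ 4 = 1 := coe_rel a6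
  have r7 : z ^ 2 = 1 := coe_rel a7
  have r8 : (z * x) ^ 2 = 1 := coe_rel a8
  have r9 : (z⁻¹ * (y * x * y * x * (y ^ 2) * x * (y⁻¹))⁻¹ * z * (y * x * y * x * (y ^ 2) * x * (y⁻¹))) * ((x ^ 2)⁻¹) = 1 :=
    coe_rel a9
  have r10 : z * (((((y ^ 3) * x * y * x * y)⁻¹ * z * ((y ^ 3) * x * y * x * y)) * x) ^ 3) = 1 :=
    coe_rel a10
  have hxy := mem_commutator_of_rels r1 r2 r4 r5 r7 r9 r10
  have hgen : commutator ↥Sxyz ⊔ Subgroup.zpowers z = ⊤ := by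
    rw [eq_top_iff]
    have htop : Subgroup.closure ({x, y, z} : Set ↥Sxyz) = ⊤ := by
      refine Subgroup.map_injective Sxyz.subtype_injective ?_
      rw [MonoidHom.map_closure, ← MonoidHom.range_eq_map, Subgroup.range_subtype]
      simp only [Set.image_insert_eq, Set.image_singleton, x, y, z]; rfl
    rw [← htop, Subgroup.closure_le]
    intro a ha
    simp only [Set.mem_insert_iff, Set.mem_singleton_iff] at ha
    rcases ha with rfl | rfl | rfl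
    · exact Subgroup.mem_sup_left hxy.1
    · exact Subgroup.mem_sup_left hxy.2
    · exact Subgroup.mem_sup_right (Subgroup.mem_zpowers _)
  rw [SchurMult.hasCyclicSchurMultiplier_one_iff]
  rintro Γ _ _ σ ⟨hs, hc, hk⟩
  let τ : ↥(Sxyz.comap σ) →* ↥Sxyz := σ.subgroupComap Sxyz
  have hτs : Function.Surjective τ := σ.subgroupComap_surjective_of_surjective Sxyz hs
  have hτc : τ.ker ≤ Subgroup.center _ := fun g hg => by
    refine Subgroup.mem_center_iff.2 fun b => Subtype.ext ?_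
    exact Subgroup.mem_center_iff.1 (hc (MonoidHom.mem_ker.2 (congrArg Subtype.val hg))) b
  have hE := ker_inf_commutator_eq_bot hτs hτc hgen π hπ hperf hπc hw hw1 hQ
  obtain ⟨X', Y', hX', hY', hX4', q1, q2, q3, q4, q5, q6, hZ'⟩ :=
    exists_lifts hτs hE hxy r1 r2 r3 r4 r5 r6 r7 r8 r9 r10 (coe_rel hx4)
  obtain ⟨Z₀, hZ₀⟩ := hτs z
  obtain ⟨T₀, hT₀⟩ := hs (hg .t)
  have cen : ∀ {g : Γ}, σ g = 1 → IsCentral g := fun h b =>
    (Subgroup.mem_center_iff.1 (hc (MonoidHom.mem_ker.2 h)) b).symm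
  have hσX : σ (X' : Γ) = hg .x := congrArg Subtype.val hX'
  have hσY : σ (Y' : Γ) = hg .y := congrArg Subtype.val hY'
  have hσZ : σ (Z₀ : Γ) = hg .z := congrArg Subtype.val hZ₀
  -- normalise the lift of `t`
  obtain ⟨q, hq⟩ : ∃ q : Γ, q = T₀ * T₀ * ((X' : Γ)⁻¹ * T₀ * (X' : Γ)) := ⟨_, rfl⟩
  have hp1 : σ (T₀ ^ 5) = 1 := by rw [map_pow, hT₀, b5]
  have hq1 : σ q = 1 := by
    simp only [hq, map_mul, map_inv, hT₀, hσX]
    rw [← pow_two]
    exact mul_eq_one_comm.1 bx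
  obtain ⟨e, he, ⟨i, j, hij⟩, t5, tx, ty⟩ := exists_t (cen hp1) (cen hq1) rfl
    (show (X' : Γ)⁻¹ * T₀ * X' = T₀⁻¹ * T₀⁻¹ * q by rw [hq]; group)
    (cen (by simp only [map_mul, map_inv, hT₀, hσY]; exact by'))
    (cen (show σ ((Y' : Γ) ^ 6) = 1 by rw [map_pow, hσY, a1]))
  have hσe : σ e = 1 := by rw [hij, map_mul, map_zpow, map_zpow, hp1, hq1]; simp
  -- normalise the lift of `z`
  have hx4Γ : (X' : Γ) ^ 4 = 1 := congrArg Subtype.val hX4'
  have hd1 : σ (((Z₀ : Γ) * (T₀ * e)) ^ 3) = 1 := by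
    rw [map_pow, map_mul, map_mul, hσe, mul_one, hT₀, hσZ, bz]
  have ha1 : σ ((Z₀ : Γ) ^ 2) = 1 := by rw [map_pow, hσZ, a7]
  obtain ⟨u, hu, ⟨i', j', hij'⟩, z2, z3⟩ := exists_z (cen ha1) (cen hd1) rfl rfl hx4Γ
    (congrArg Subtype.val (hZ' Z₀ hZ₀).1) t5 tx
  have hσu : σ u = 1 := by rw [hij', map_mul, map_zpow, map_zpow, ha1, hd1]; simp
  obtain ⟨Z, hZ, hτZ⟩ : ∃ Z : ↥(Sxyz.comap σ), (Z : Γ) = (Z₀ : Γ) * u ∧ τ Z = z := by
    refine ⟨⟨(Z₀ : Γ) * u, ?_⟩, rfl, Subtype.ext ?_⟩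
    · rw [Subgroup.mem_comap, map_mul, hσu, mul_one]; exact (hσZ ▸ z.2)
    · show σ ((Z₀ : Γ) * u) = _
      rw [map_mul, hσu, mul_one, hσZ]
  obtain ⟨q8, q9, q10⟩ := (hZ' Z hτZ).2 (Subtype.ext (by rw [Subgroup.coe_pow, hZ]; exact z2))
  obtain ⟨Zg, hZg⟩ : ∃ g : Γ, g = (Z : Γ) := ⟨_, rfl⟩
  obtain ⟨T, hT⟩ : ∃ g : Γ, g = T₀ * e := ⟨_, rfl⟩
  rw [← hT] at t5 tx ty z3
  rw [← hZ, ← hZg] at z2 z3
  let f : HN.Gen → Γ := fun a => match a with
    | .x => X' | .y => Y' | .z => Zg | .t => T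
  have hrel : ∀ r ∈ coxRelators HN.edges ∪ {r | r ∈ HN.extra}, FreeGroup.lift f r = 1 := by
    intro r hr
    rcases hr with ⟨a, ha, -⟩ | hr
    · simp [coxNodes, HN.edges] at ha
    · revert r
      simp only [HN.extra, Set.mem_ofPred_eq, List.forall_mem_cons, List.not_mem_nil, false_imp_iff,
        imp_true_iff, and_true, map_mul, map_inv, map_pow, HN.x, HN.y, HN.z, HN.t,
        FreeGroup.lift_apply_of, f, hZg]
      refine ⟨?_, ?_, ?_, ?_, ?_, ?_, ?_, ?_, ?_, ?_, t5, tx, ty, ?_⟩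
      all_goals first
        | exact congrArg Subtype.val q1 | exact congrArg Subtype.val q2
        | exact congrArg Subtype.val q3 | exact congrArg Subtype.val q4
        | exact congrArg Subtype.val q5 | exact congrArg Subtype.val q6
        | exact congrArg Subtype.val q8 | exact congrArg Subtype.val q9
        | exact congrArg Subtype.val q10 | (rw [← hZg]; assumption)
  let s : Spor.HN →* Γ := PresentedGroup.toGroup hrel
  have hsec : σ.comp s = MonoidHom.id _ := by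
    refine PresentedGroup.ext fun a => ?_
    have hso : s (PresentedGroup.of a) = f a := PresentedGroup.toGroup.of hrel
    show σ (s (PresentedGroup.of a)) = PresentedGroup.of a
    rw [hso]
    cases a
    · exact hσX
    · exact hσY
    · show σ Zg = _
      rw [hZg, hZ, map_mul, hσu, mul_one]; exact hσZ
    · show σ T = _
      rw [hT, map_mul, hσe, mul_one]; exact hT₀
  have hss : ∀ b, σ (s b) = b := fun b => DFunLike.congr_fun hsec b
  have hcomm : commutator Γ ≤ s.range := by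
    rw [commutator_def, Subgroup.commutator_le]
    intro g _ g' _
    have hk : ∀ g : Γ, IsCentral ((s (σ g))⁻¹ * g) := fun g => cen (by simp [hss])
    refine ⟨⁅σ g, σ g'⁆, ?_⟩
    obtain ⟨k, hkc, hgk⟩ : ∃ k, IsCentral k ∧ g = s (σ g) * k := ⟨_, hk g, by group⟩
    obtain ⟨l, hlc, hgl⟩ : ∃ l, IsCentral l ∧ g' = s (σ g') * l := ⟨_, hk g', by group⟩
    rw [map_commutatorElement]
    generalize s (σ g) = A at hgk
    generalize s (σ g') = B at hgl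
    subst hgk hgl
    rw [commutatorElement_def, commutatorElement_def, mul_inv_rev, mul_inv_rev]
    symm
    calc A * k * (B * l) * (k⁻¹ * A⁻¹) * (l⁻¹ * B⁻¹)
        = A * (k * B) * l * k⁻¹ * A⁻¹ * l⁻¹ * B⁻¹ := by group
      _ = A * B * (k * l) * (k⁻¹ * A⁻¹ * l⁻¹) * B⁻¹ := by rw [hkc B]; group
      _ = A * B * ((k * l) * (k⁻¹ * l⁻¹)) * A⁻¹ * B⁻¹ := by
          rw [mul_assoc k⁻¹, (hlc.inv A⁻¹).symm]; group
      _ = A * B * A⁻¹ * B⁻¹ := by rw [hkc l]; group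
  rw [eq_bot_iff]
  intro k hkk
  obtain ⟨b, hb⟩ := hcomm (hk hkk)
  have : b = 1 := by rw [← hss b, hb]; exact hkk
  rw [Subgroup.mem_bot, ← hb, this, map_one]

/-- Variant needing only a map of the derived subgroup of `⟨x, y, z⟩` onto a perfect group. -/
theorem multiplier_HN_of_map [Finite Spor.HN] {Q : Type*} [Group Q] [Finite Q]
    (hx4 : hg .x ^ 4 = 1) (hx2 : hg .x ^ 2 ≠ 1) (π : ↥(commutator ↥Sxyz) →* Q)
    (hπ : Function.Surjective π) (hQ1 : commutator Q = ⊤)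
    (hπc : ∀ k, π k = 1 → IsCentral (k : ↥Sxyz))
    (hπx : ∀ k : ↥(commutator ↥Sxyz), ((k : ↥Sxyz) : Spor.HN) = hg .x ^ 2 → π k = 1)
    (hQ : Cfsg.HasCyclicSchurMultiplier Q 2) :
    Cfsg.HasCyclicSchurMultiplier Spor.HN 1 := by
  obtain ⟨a1, a2, a3, a4, a5, a6, a7, a8, a9, a10, -, -, -, -⟩ := hn_rels
  let x : ↥Sxyz := ⟨hg .x, Subgroup.subset_closure (by simp)⟩
  let y : ↥Sxyz := ⟨hg .y, Subgroup.subset_closure (by simp)⟩
  let z : ↥Sxyz := ⟨hg .z, Subgroup.subset_closure (by simp)⟩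
  have hxy : x ∈ commutator ↥Sxyz ∧ y ∈ commutator ↥Sxyz :=
    mem_commutator_of_rels (z := z) (coe_rel a1) (coe_rel a2) (coe_rel a4) (coe_rel a5)
      (coe_rel a7) (coe_rel a9) (coe_rel a10)
  have hgen : commutator ↥Sxyz ⊔ Subgroup.zpowers z = ⊤ := by
    rw [eq_top_iff]
    have htop : Subgroup.closure ({x, y, z} : Set ↥Sxyz) = ⊤ := by
      refine Subgroup.map_injective Sxyz.subtype_injective ?_
      rw [MonoidHom.map_closure, ← MonoidHom.range_eq_map, Subgroup.range_subtype]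
      simp only [Set.image_insert_eq, Set.image_singleton, x, y, z]; rfl
    rw [← htop, Subgroup.closure_le]
    intro a ha
    simp only [Set.mem_insert_iff, Set.mem_singleton_iff] at ha
    rcases ha with rfl | rfl | rfl
    · exact Subgroup.mem_sup_left hxy.1
    · exact Subgroup.mem_sup_left hxy.2
    · exact Subgroup.mem_sup_right (Subgroup.mem_zpowers _)
  refine multiplier_HN hx4 π hπ (perfect_of_double_cover hgen π hπ hQ1 hπc) (fun k hk => ?_)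
    (w := ⟨x ^ 2, pow_mem hxy.1 2⟩) (hπx _ rfl) (fun h => hx2 ?_) hQ
  · exact Subgroup.mem_center_iff.2 fun b => Subtype.ext (hπc k hk b).symm
  · exact congrArg (fun e : ↥(commutator ↥Sxyz) => ((e : ↥Sxyz) : Spor.HN)) h

end CfsgLib.HNCover80
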